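import Cfsg.Agent.H673.R2.Sl
import Cfsg.Agent.H113.BorelInd
import Cfsg.Agent.H984.SLInd
import Cfsg.Agent.H829.CuspThree
import Cfsg.Agent.ChevalleyStructure.SL2Hom
import Cfsg.Agent.Blocks.Basic

/-!
# A rational irreducible character of odd degree of `SL₂(K)`, `K` finite of characteristic two (helper673)

`exists_eta` : piece E of the plan `tools/plans/S4829_even_stubs.lean.txt`.
-/

set_option autoImplicit false

namespace Cfsg.Agent.H673.R2

open Matrix Cfsg
open scoped ComplexConjugate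

universe u

local notation "SL2 " F => Matrix.SpecialLinearGroup (Fin 2) F

theorem even_card (K : Type u) [Field K] [Finite K] [CharP K 2] : 2 ∣ Nat.card K := by
  have := Fintype.ofFinite K
  rw [Nat.card_eq_fintype_card]
  exact (CharP.cast_eq_zero_iff K 2 _).1 (Nat.cast_card_eq_zero K)

theorem card_mod_three (K : Type u) [Field K] [Finite K] [CharP K 2] : Nat.card K % 3 = 1 ∨ Nat.card K % 3 = 2 := by
  have := Fintype.ofFinite K
  obtain ⟨n, -, hn⟩ := FiniteField.card K 2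
  rw [Nat.card_eq_fintype_card, hn]
  have h1 : ¬ 3 ∣ 2 ^ (n : ℕ) := by
    intro h
    have h2 := (Nat.prime_three.dvd_of_dvd_pow h)
    omega
  omega

/-! ### The cuspidal case -/

theorem scalar_toGL_bijective (K : Type u) [Field K] [Finite K] [CharP K 2] :
    Function.Bijective (fun p : Kˣ × (SL2 K) =>
      Matrix.GeneralLinearGroup.scalar (Fin 2) p.1 * Matrix.SpecialLinearGroup.toGL p.2) := by
  have := Fintype.ofFinite K
  have hdet : ∀ (c : Kˣ) (s : SL2 K), ((Matrix.GeneralLinearGroup.scalar (Fin 2) c *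
      Matrix.SpecialLinearGroup.toGL s : GL (Fin 2) K) : Matrix (Fin 2) (Fin 2) K) = (c : K) • (s : Matrix (Fin 2) (Fin 2) K) := by
    intro c s
    rw [Units.val_mul]
    ext i j
    have h1 : ((Matrix.GeneralLinearGroup.scalar (Fin 2) c : GL (Fin 2) K) : Matrix (Fin 2) (Fin 2) K) =
      Matrix.scalar (Fin 2) (c : K) := rfl
    rw [h1]
    simp [Matrix.SpecialLinearGroup.toGL]
  constructor
  · rintro ⟨c, s⟩ ⟨c', s'⟩ h
    simp only at h
    have h1 := congrArg (fun g : GL (Fin 2) K => (g : Matrix (Fin 2) (Fin 2) K)) h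
    simp only [hdet] at h1
    have h2 := congrArg Matrix.det h1
    rw [Matrix.det_smul, Matrix.det_smul, s.det_coe, s'.det_coe, mul_one, mul_one, Fintype.card_fin] at h2
    have h3 : (c : K) = c' := by
      have h4 : ((c : K) - c') ^ 2 = 0 := by
        have h5 : (2 : K) = 0 := CharTwo.two_eq_zero
        linear_combination h2 + (c' * c' - c * c' : K) * h5
      exact sub_eq_zero.1 (pow_eq_zero_iff (two_ne_zero) |>.1 h4)
    have h6 : c = c' := Units.ext h3
    subst h6
    congr 1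
    apply Subtype.ext
    exact smul_right_injective _ c.ne_zero h1
  · intro g
    obtain ⟨r, hr⟩ := FiniteField.isSquare_of_char_two (F := K) (ringChar.eq K 2) (g : Matrix (Fin 2) (Fin 2) K).det
    have hg : (g : Matrix (Fin 2) (Fin 2) K).det ≠ 0 := ((Matrix.isUnit_iff_isUnit_det _).1 g.isUnit).ne_zero
    have hr0 : r ≠ 0 := by
      rintro rfl
      rw [hr, mul_zero] at hg
      exact hg rfl
    refine ⟨(Units.mk0 r hr0, ⟨r⁻¹ • (g : Matrix (Fin 2) (Fin 2) K), ?_⟩), ?_⟩
    · rw [Matrix.det_smul, hr, Fintype.card_fin]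
      have h7 := mul_inv_cancel₀ hr0
      linear_combination (r⁻¹ * r + 1) * h7
    · apply Units.ext
      refine (hdet _ _).trans ?_
      show r • (r⁻¹ • (g : Matrix (Fin 2) (Fin 2) K)) = g
      rw [smul_smul, mul_inv_cancel₀ hr0, one_smul]

theorem isIrr_toGL (K : Type u) [Field K] [Finite K] [CharP K 2] [Fintype (SL2 K)] {Ψ : GL (Fin 2) K → ℂ}
    (hΨ : IsIrrCharacter (GL (Fin 2) K) Ψ)
    (hc : ∀ (c : Kˣ) (g : GL (Fin 2) K), Ψ (Matrix.GeneralLinearGroup.scalar (Fin 2) c * g) = Ψ g) :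
    IsIrrCharacter (SL2 K) (Ψ ∘ Matrix.SpecialLinearGroup.toGL) := by
  classical
  have := Fintype.ofFinite K
  have := Fintype.ofFinite (GL (Fin 2) K)
  apply Characters.Core.isIrr_of_classInner_self
    (Characters.Core.isCharacter_comp _ (Characters.Core.isIrr_isCharacter hΨ))
  have h1 := Characters.Core.classInner_irr_self hΨ
  unfold classInner at h1 ⊢
  have hb := scalar_toGL_bijective K
  have h2 : Nat.card (GL (Fin 2) K) = Nat.card Kˣ * Nat.card (SL2 K) := by
    rw [← Nat.card_prod]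
    exact (Nat.card_congr (Equiv.ofBijective _ hb)).symm
  have h3 : ∑ g : GL (Fin 2) K, Ψ g * conj (Ψ g) = (Nat.card Kˣ : ℂ) *
      ∑ s : SL2 K, (Ψ ∘ Matrix.SpecialLinearGroup.toGL) s * conj ((Ψ ∘ Matrix.SpecialLinearGroup.toGL) s) := by
    rw [← hb.sum_comp (fun g => Ψ g * conj (Ψ g)), Fintype.sum_prod_type]
    simp only [hc]
    rw [Finset.sum_const, Finset.card_univ, nsmul_eq_mul, Nat.card_eq_fintype_card]
    rfl
  rw [h2, h3, Nat.cast_mul, mul_inv, mul_mul_mul_comm, inv_mul_cancel₀, one_mul] at h1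
  · exact h1
  · exact_mod_cast (Nat.card_pos (α := Kˣ)).ne'

theorem exists_eta_two (K : Type u) [Field K] [Finite K] [CharP K 2] [Fintype (SL2 K)] (h : Nat.card K % 3 = 2) :
    ∃ η : (SL2 K) → ℂ, IsIrrCharacter _ η ∧ η ≠ (fun _ => 1) ∧ ¬ 2 ∣ charDegree η ∧
      (∀ g g' : SL2 K, orderOf g = orderOf g' → η g = η g') ∧
      (∀ [Fintype K], ∑ a : K, η (ChevalleyStructure.SL2Hom.up a) = 0) := by
  classical
  obtain ⟨Ψ, hΨ, h1, hs, hu, hq⟩ := H829.CuspThree.exists_cusp_three K h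
  have hi := isIrr_toGL K hΨ hs
  have hsum : ∀ [Fintype K], ∑ a : K, (Ψ ∘ Matrix.SpecialLinearGroup.toGL) (ChevalleyStructure.SL2Hom.up a) = 0 := by
    intro hK
    rw [← Finset.add_sum_erase Finset.univ _ (Finset.mem_univ (0 : K))]
    have e0 : (Ψ ∘ Matrix.SpecialLinearGroup.toGL) (ChevalleyStructure.SL2Hom.up (0 : K)) = ((Nat.card K - 1 : ℕ) : ℂ) := by
      rw [← h1]
      show Ψ _ = Ψ 1
      congr 1
      apply Units.ext
      ext i j
      fin_cases i <;> fin_cases j <;> rfl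
    have e1 : ∀ a ∈ Finset.univ.erase (0 : K), (Ψ ∘ Matrix.SpecialLinearGroup.toGL) (ChevalleyStructure.SL2Hom.up a) = -1 := by
      intro a ha
      rw [← hu a (Finset.ne_of_mem_erase ha)]
      show Ψ _ = Ψ _
      congr 1
      apply Units.ext
      rfl
    rw [Finset.sum_congr rfl e1, Finset.sum_const, Finset.card_erase_of_mem (Finset.mem_univ _), Finset.card_univ, e0,
      Nat.card_eq_fintype_card, nsmul_eq_mul]
    ring
  refine ⟨Ψ ∘ Matrix.SpecialLinearGroup.toGL, hi, ?_, ?_, ?_, hsum⟩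
  · intro h2
    have := Fintype.ofFinite K
    have h3 := hsum
    rw [h2] at h3
    simp at h3
  · have h2 : (Ψ ∘ Matrix.SpecialLinearGroup.toGL) 1 = ((Nat.card K - 1 : ℕ) : ℂ) := by
      rw [← h1]
      show Ψ _ = Ψ 1
      rw [map_one]
    rw [Blocks.Basic.charDegree_of_eq h2]
    have h3 := even_card K
    have h4 : 1 < Nat.card K := Finite.one_lt_card
    omega
  · intro g g' hg
    exact eq_of_orderOf (Characters.Core.isIrr_isCharacter hi) (fun g => hq _) hg

/-! ### The principal series case -/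

section borel

open H113.BorelInd

variable {K : Type u} [Field K] [Fintype K]

theorem ind_congr {G : Type u} [Group G] (i1 i2 : Fintype G) (H : Subgroup G) (θ : H → ℂ) :
    @indFun G _ i1 H θ = @indFun G _ i2 H θ := by
  rw [Subsingleton.elim i1 i2]

omit [Fintype K] in
theorem indFun_sl_eq [Fintype (SL2 K)] (α : MulChar K ℂ) :
    indFun (slB K) (fun b => ((slLin α).toHomUnits b : ℂ)) =
      indFun (H984.SLTwo.Bor K) (fun b => α (((b : SL2 K) : Matrix (Fin 2) (Fin 2) K) 0 0)) := by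
  congr 1
  funext b
  rw [MonoidHom.coe_toHomUnits, slLin_apply]

theorem rat_ind [Fintype (SL2 K)] {α : MulChar K ℂ} (hα : α ^ 3 = 1) (g : SL2 K) :
    ∃ r : ℚ, indFun (slB K) (fun b => ((slLin α).toHomUnits b : ℂ)) g = r := by
  classical
  have hcl : IsClassFunction (SL2 K) (indFun (slB K) (fun b => ((slLin α).toHomUnits b : ℂ))) :=
    Characters.Brauer.indFun_isClassFunction _ _
  have hcube : ∀ c : K, c ≠ 0 → α c ^ 3 = 1 := by
    intro c hc
    rw [← MulChar.pow_apply' α (by norm_num), hα, MulChar.one_apply (isUnit_iff_ne_zero.2 hc)]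
  by_cases h : ∃ (c : K) (v : Fin 2 → K), v ≠ 0 ∧ (g : Matrix (Fin 2) (Fin 2) K).mulVec v = c • v
  · obtain ⟨c, v, hv, hc⟩ := h
    let x : SL2 K := H984.SLTwo.withCol v hv 0
    have hx : H984.SLTwo.col x = v := H984.SLTwo.col_withCol v hv 0
    obtain ⟨y, hy⟩ : ∃ y : SL2 K, y = x⁻¹ * g * x := ⟨_, rfl⟩
    have h1 := (H984.SLTwo.conj_col x g c).2 (by rw [hx]; exact hc)
    have h2 : indFun (slB K) (fun b => ((slLin α).toHomUnits b : ℂ)) g =
        indFun (slB K) (fun b => ((slLin α).toHomUnits b : ℂ)) y := by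
      rw [hy, ← hcl g x⁻¹, inv_inv]
    rw [← hy] at h1
    obtain ⟨h10, -⟩ := h1
    have hdet := det_sl h10
    have hn0 : (y : Matrix (Fin 2) (Fin 2) K) 0 0 ≠ 0 := left_ne_zero_of_mul_eq_one hdet
    have hn1 : (y : Matrix (Fin 2) (Fin 2) K) 1 1 ≠ 0 := right_ne_zero_of_mul_eq_one hdet
    have hmul : α ((y : Matrix (Fin 2) (Fin 2) K) 0 0) * α ((y : Matrix (Fin 2) (Fin 2) K) 1 1) = 1 := by
      rw [← map_mul, hdet, MulChar.map_one]
    rw [h2, indFun_sl_eq]
    by_cases he : (y : Matrix (Fin 2) (Fin 2) K) 0 0 = (y : Matrix (Fin 2) (Fin 2) K) 1 1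
    · have h3 : α ((y : Matrix (Fin 2) (Fin 2) K) 0 0) = 1 := by
        rw [← he] at hmul
        have h4 := hcube _ hn0
        linear_combination h4 - α ((y : Matrix (Fin 2) (Fin 2) K) 0 0) * hmul
      by_cases h01 : (y : Matrix (Fin 2) (Fin 2) K) 0 1 = 0
      · refine ⟨(Fintype.card K : ℚ) + 1, ?_⟩
        refine ((congrFun (ind_congr _ _ _ _) _).trans (H984.SLTwo.ind_scalar (fun c : K => α c) y h01 h10 he)).trans ?_
        rw [h3]
        push_cast
        ring
      · refine ⟨1, ?_⟩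
        refine ((congrFun (ind_congr _ _ _ _) _).trans (H984.SLTwo.ind_unip (fun c : K => α c) y h01 h10 he)).trans ?_
        rw [h3]
        norm_num
    · obtain ⟨r, hr⟩ := H829.CuspThree.rat_of_cube (hcube _ hn0)
      refine ⟨r, ?_⟩
      refine ((congrFun (ind_congr _ _ _ _) _).trans (H984.SLTwo.ind_split (fun c : K => α c) y h10 he)).trans ?_
      rw [← hr]
      linear_combination (-(α ((y : Matrix (Fin 2) (Fin 2) K) 1 1))) * hcube _ hn0 + α ((y : Matrix (Fin 2) (Fin 2) K) 0 0) ^ 2 * hmul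
  · refine ⟨0, ?_⟩
    rw [indFun_sl_eq]
    refine ((congrFun (ind_congr _ _ _ _) _).trans (H984.SLTwo.ind_ell (fun c : K => α c) g
      (fun c v hv h1 => h ⟨c, v, hv, h1⟩))).trans ?_
    rw [Rat.cast_zero]

end borel

theorem exists_eta_one (K : Type u) [Field K] [Finite K] [CharP K 2] [Fintype (SL2 K)] (h : Nat.card K % 3 = 1) :
    ∃ η : (SL2 K) → ℂ, IsIrrCharacter _ η ∧ η ≠ (fun _ => 1) ∧ ¬ 2 ∣ charDegree η ∧
      (∀ g g' : SL2 K, orderOf g = orderOf g' → η g = η g') ∧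
      ∃ (Bo : Subgroup (SL2 K)) (lam : Bo →* ℂˣ), (∀ g : SL2 K, g ∈ Bo ↔ g.1 1 0 = 0) ∧
        (∀ (a : K) (ha : ChevalleyStructure.SL2Hom.up a ∈ Bo), lam ⟨_, ha⟩ = 1) ∧
        η = indFun Bo (fun b => (lam b : ℂ)) := by
  classical
  have := Fintype.ofFinite K
  rw [Nat.card_eq_fintype_card] at h
  obtain ⟨α, hα⟩ := MulChar.exists_mulChar_orderOf K (n := 3) (R := ℂ) (by omega)
    (Complex.isPrimitiveRoot_exp 3 (by norm_num))
  have h3 : α ^ 3 = 1 := by rw [← hα, pow_orderOf_eq_one]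
  have h2 : α ≠ α⁻¹ := by
    intro h2
    have h4 : α ^ 2 = 1 := by rw [sq, mul_eq_one_iff_eq_inv]; exact h2
    have h5 := orderOf_dvd_of_pow_eq_one h4
    rw [hα] at h5
    omega
  have hval : indFun (H113.BorelInd.slB K) (fun b => ((H113.BorelInd.slLin α).toHomUnits b : ℂ)) 1 =
      ((Fintype.card K + 1 : ℕ) : ℂ) := by
    rw [indFun_sl_eq]
    refine ((congrFun (ind_congr _ _ _ _) _).trans (H984.SLTwo.ind_scalar (fun c : K => α c) 1 (by simp) (by simp)
      (by simp))).trans ?_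
    simp
  have hi : IsIrrCharacter (SL2 K) (indFun (H113.BorelInd.slB K) (fun b => ((H113.BorelInd.slLin α).toHomUnits b : ℂ))) := by
    have h4 : (fun b => ((H113.BorelInd.slLin α).toHomUnits b : ℂ)) = fun b => H113.BorelInd.slLin α b :=
      funext fun b => MonoidHom.coe_toHomUnits _ _
    rw [h4, Characters.Core.isIrr_iff_classInner_self (Characters.Brauer.isCharacter_indFun _
      (Characters.Brauer.isCharacter_of_monoidHom (H113.BorelInd.slLin α)))]
    have h5 := H113.BorelInd.classInner_sl α α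
    rw [if_pos rfl, if_neg h2, add_zero] at h5
    rw [← h5]
    congr!
  refine ⟨_, hi, ?_, ?_, ?_, H113.BorelInd.slB K, (H113.BorelInd.slLin α).toHomUnits, fun g => H113.BorelInd.mem_sl, ?_, rfl⟩
  · intro h4
    rw [h4] at hval
    have h5 : ((1 : ℕ) : ℂ) = ((Fintype.card K + 1 : ℕ) : ℂ) := by rw [← hval, Nat.cast_one]
    have h6 := Nat.cast_injective h5
    have h7 := Fintype.card_pos (α := K)
    omega
  · rw [Blocks.Basic.charDegree_of_eq hval]
    have h4 := even_card K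
    rw [Nat.card_eq_fintype_card] at h4
    omega
  · intro g g' hg
    exact eq_of_orderOf (Characters.Core.isIrr_isCharacter hi) (fun g => rat_ind h3 g) hg
  · intro a ha
    apply Units.ext
    rw [MonoidHom.coe_toHomUnits, H113.BorelInd.slLin_apply, Units.val_one]
    show α (1 : K) = 1
    exact MulChar.map_one α

/-- PIECE E : the character `η` of `SL₂(K)`, `K` finite of characteristic two -/
theorem exists_eta (K : Type*) [Field K] [Finite K] [CharP K 2] [Fintype (SL2 K)] : ∃ η : (SL2 K) → ℂ,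
    IsIrrCharacter _ η ∧ η ≠ (fun _ => 1) ∧ ¬ 2 ∣ charDegree η ∧ (∀ g g' : SL2 K, orderOf g = orderOf g' → η g = η g') ∧
    ((∀ [Fintype K], ∑ a : K, η (ChevalleyStructure.SL2Hom.up a) = 0) ∨
      ∃ (Bo : Subgroup (SL2 K)) (lam : Bo →* ℂˣ), (∀ g : SL2 K, g ∈ Bo ↔ g.1 1 0 = 0) ∧
        (∀ (a : K) (ha : ChevalleyStructure.SL2Hom.up a ∈ Bo), lam ⟨_, ha⟩ = 1) ∧ η = indFun Bo (fun b => (lam b : ℂ))) := by
  rcases card_mod_three K with h | h
  · obtain ⟨η, h1, h2, h3, h4, h5⟩ := exists_eta_one K h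
    exact ⟨η, h1, h2, h3, h4, Or.inr h5⟩
  · obtain ⟨η, h1, h2, h3, h4, h5⟩ := exists_eta_two K h
    exact ⟨η, h1, h2, h3, h4, Or.inl h5⟩

end Cfsg.Agent.H673.R2
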