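import Mathlib
import Cfsg.Agent.Characters.Core
import Cfsg.Agent.Characters.GaloisBasic

/-!
# `SL₂(K)`, `K` finite of characteristic two: conjugacy and element orders (helper673)

* `isConj_of_tr` : nontrivial elements of the same trace are conjugate;
* `exists_pow_conj` : if `g`, `g'` have the same order, then `g ^ k` and `g'` are conjugate, `k` prime to the group order;
* `eq_of_orderOf` : a rational valued character takes the same value at elements of the same order.
-/

set_option autoImplicit false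

namespace Cfsg.Agent.H673.R2

open Matrix Cfsg

universe u

variable {F : Type u} [Field F] [CharP F 2]

local notation "SL" => Matrix.SpecialLinearGroup (Fin 2) F

/-- the trace -/
def tr (g : SL) : F := (g : Matrix (Fin 2) (Fin 2) F) 0 0 + (g : Matrix (Fin 2) (Fin 2) F) 1 1

omit [CharP F 2] in
theorem sl_ext' {y z : SL} (h : (y : Matrix (Fin 2) (Fin 2) F) = z) : y = z := Subtype.ext h

omit [CharP F 2] in
theorem sl_mul' (y z : SL) : ((y * z : SL) : Matrix (Fin 2) (Fin 2) F) = (y : Matrix (Fin 2) (Fin 2) F) * z := rfl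

theorem det_plus (x : SL) : (x : Matrix (Fin 2) (Fin 2) F) 0 0 * (x : Matrix (Fin 2) (Fin 2) F) 1 1 +
    (x : Matrix (Fin 2) (Fin 2) F) 0 1 * (x : Matrix (Fin 2) (Fin 2) F) 1 0 = 1 := by
  have h3 := x.det_coe
  rw [det_fin_two, CharTwo.sub_eq_add] at h3
  exact h3

/-- the companion matrix -/
def cm (t : F) : SL := ⟨!![0, 1; 1, t], by
  rw [det_fin_two_of, CharTwo.sub_eq_add]
  ring⟩

theorem conj_of_vec (x : SL) (v w s : F)
    (hs : s * s * (v * ((x : Matrix (Fin 2) (Fin 2) F) 1 0 * v + (x : Matrix (Fin 2) (Fin 2) F) 1 1 * w) +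
      w * ((x : Matrix (Fin 2) (Fin 2) F) 0 0 * v + (x : Matrix (Fin 2) (Fin 2) F) 0 1 * w)) = 1) :
    ∃ g : SL, g * x * g⁻¹ = cm (tr x) := by
  have h2 : (1 : F) + 1 = 0 := CharTwo.add_self_eq_zero 1
  have hd := det_plus x
  let P : SL :=
    ⟨!![s * v, s * (x 0 0 * v + x 0 1 * w); s * w, s * (x 1 0 * v + x 1 1 * w)], by
      rw [det_fin_two_of, CharTwo.sub_eq_add]
      linear_combination hs⟩
  have key : x * P = P * cm (tr x) := by
    apply sl_ext'
    rw [sl_mul', sl_mul']
    show (x : Matrix (Fin 2) (Fin 2) F) * !![s * v, s * (x 0 0 * v + x 0 1 * w); s * w, s * (x 1 0 * v + x 1 1 * w)] =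
      !![s * v, s * (x 0 0 * v + x 0 1 * w); s * w, s * (x 1 0 * v + x 1 1 * w)] * !![0, 1; 1, x 0 0 + x 1 1]
    ext i j
    fin_cases i <;> fin_cases j <;> simp [Matrix.mul_apply, Fin.sum_univ_two]
    · ring
    · linear_combination (s * v) * hd - (s * (x 0 0 * x 1 1 * v)) * h2
    · ring
    · linear_combination (s * w) * hd - (s * (x 0 0 * x 1 1 * w)) * h2
  refine ⟨P⁻¹, ?_⟩
  rw [inv_inv, mul_assoc, key, inv_mul_cancel_left]

theorem exists_conj_cm [Finite F] (x : SL) (hx : x ≠ 1) : ∃ g : SL, g * x * g⁻¹ = cm (tr x) := by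
  have h2 : (1 : F) + 1 = 0 := CharTwo.add_self_eq_zero 1
  have hd := det_plus x
  have hsq : ∀ δ : F, δ ≠ 0 → ∃ s : F, s * s * δ = 1 := by
    intro δ hδ
    have := Fintype.ofFinite F
    obtain ⟨r, hr⟩ := FiniteField.isSquare_of_char_two (F := F) (ringChar.eq F 2) δ⁻¹
    exact ⟨r, by rw [← hr, inv_mul_cancel₀ hδ]⟩
  by_cases hc : (x : Matrix (Fin 2) (Fin 2) F) 1 0 = 0
  · by_cases hb : (x : Matrix (Fin 2) (Fin 2) F) 0 1 = 0
    · by_cases ha : (x : Matrix (Fin 2) (Fin 2) F) 0 0 + (x : Matrix (Fin 2) (Fin 2) F) 1 1 = 0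
      · exfalso
        apply hx
        have h3 : (x : Matrix (Fin 2) (Fin 2) F) 1 1 = (x : Matrix (Fin 2) (Fin 2) F) 0 0 := by
          rw [← CharTwo.sub_eq_add] at ha
          exact (sub_eq_zero.1 ha).symm
        rw [hb, zero_mul, add_zero, h3] at hd
        have h4 : (x : Matrix (Fin 2) (Fin 2) F) 0 0 = 1 := by
          have h5 : ((x : Matrix (Fin 2) (Fin 2) F) 0 0 + 1) * ((x : Matrix (Fin 2) (Fin 2) F) 0 0 + 1) = 0 := by
            linear_combination hd + ((x : Matrix (Fin 2) (Fin 2) F) 0 0 + 1) * h2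
          have h6 := mul_self_eq_zero.1 h5
          rw [← CharTwo.sub_eq_add] at h6
          exact sub_eq_zero.1 h6
        apply sl_ext'
        ext i j
        fin_cases i <;> fin_cases j
        · exact h4
        · exact hb
        · exact hc
        · exact h3.trans h4
      · obtain ⟨s, hs⟩ := hsq _ ha
        refine conj_of_vec x 1 1 s ?_
        rw [hb, hc]
        linear_combination hs
    · obtain ⟨s, hs⟩ := hsq _ hb
      exact conj_of_vec x 0 1 s (by linear_combination hs)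
  · obtain ⟨s, hs⟩ := hsq _ hc
    exact conj_of_vec x 1 0 s (by linear_combination hs)

/-- nontrivial elements of the same trace are conjugate -/
theorem isConj_of_tr [Finite F] {x y : SL} (hx : x ≠ 1) (hy : y ≠ 1) (h : tr x = tr y) : IsConj x y := by
  obtain ⟨g, hg⟩ := exists_conj_cm x hx
  obtain ⟨k, hk⟩ := exists_conj_cm y hy
  have h1 : IsConj x (cm (tr x)) := isConj_iff.2 ⟨g, hg⟩
  have h2 : IsConj y (cm (tr y)) := isConj_iff.2 ⟨k, hk⟩
  rw [h] at h1
  exact h1.trans h2.symm

theorem sq_eq (x : SL) : ((x * x : SL) : Matrix (Fin 2) (Fin 2) F) = tr x • (x : Matrix (Fin 2) (Fin 2) F) + 1 := by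
  have h2 : (1 : F) + 1 = 0 := CharTwo.add_self_eq_zero 1
  have hd := det_plus x
  rw [sl_mul']
  ext i j
  fin_cases i <;> fin_cases j <;> simp [Matrix.mul_apply, Fin.sum_univ_two, tr]
  · linear_combination hd - ((x : Matrix (Fin 2) (Fin 2) F) 0 0 * (x : Matrix (Fin 2) (Fin 2) F) 1 1) * h2
  · ring
  · ring
  · linear_combination hd - ((x : Matrix (Fin 2) (Fin 2) F) 0 0 * (x : Matrix (Fin 2) (Fin 2) F) 1 1) * h2

theorem sq_eq_one_of_tr {x : SL} (h : tr x = 0) : x * x = 1 := by
  apply sl_ext'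
  rw [sq_eq, h, zero_smul, zero_add]
  rfl

theorem tr_one : tr (1 : SL) = 0 := by
  show (1 : F) + 1 = 0
  exact CharTwo.add_self_eq_zero 1

theorem tr_pow_succ (x : SL) (n : ℕ) : tr (x ^ (n + 2)) = tr x * tr (x ^ (n + 1)) + tr (x ^ n) := by
  have h1 : ((x ^ (n + 2) : SL) : Matrix (Fin 2) (Fin 2) F) = tr x • ((x ^ (n + 1) : SL) : Matrix (Fin 2) (Fin 2) F) +
      ((x ^ n : SL) : Matrix (Fin 2) (Fin 2) F) := by
    have h2 : x ^ (n + 2) = x ^ n * (x * x) := by rw [pow_add, pow_two]
    rw [h2, sl_mul', sq_eq, mul_add, mul_one, Matrix.mul_smul, ← sl_mul', ← pow_succ]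
  unfold tr
  rw [h1]
  simp only [Matrix.add_apply, Matrix.smul_apply, smul_eq_mul, tr]
  ring

section ext

variable {L : Type u} [Field L] [Algebra F L]

theorem tr_pow (x : SL) {l : L} (hl : l * l + algebraMap F L (tr x) * l + 1 = 0) (n : ℕ) :
    algebraMap F L (tr (x ^ n)) = l ^ n + l⁻¹ ^ n := by
  have : CharP L 2 := charP_of_injective_algebraMap (algebraMap F L).injective 2
  have h2 : (1 : L) + 1 = 0 := CharTwo.add_self_eq_zero 1
  have h0 : l ≠ 0 := by
    rintro rfl
    simp at hl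
  have ht : algebraMap F L (tr x) = l + l⁻¹ := by
    field_simp
    linear_combination hl - (l ^ 2 + 1) * h2
  induction n using Nat.twoStepInduction with
  | zero => rw [pow_zero, tr_one, map_zero, pow_zero, pow_zero, h2]
  | one => rw [pow_one, ht, pow_one, pow_one]
  | more n ih1 ih2 =>
    rw [tr_pow_succ, map_add, map_mul, ht, ih1, ih2]
    have hli : l * l⁻¹ = 1 := mul_inv_cancel₀ h0
    generalize l⁻¹ = i at hli
    linear_combination (l ^ n + i ^ n) * hli + (l ^ n + i ^ n) * h2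

theorem tr_pow_eq_zero (x : SL) {l : L} (hl : l * l + algebraMap F L (tr x) * l + 1 = 0) (n : ℕ) :
    tr (x ^ n) = 0 ↔ l ^ n = 1 := by
  have : CharP L 2 := charP_of_injective_algebraMap (algebraMap F L).injective 2
  have h0 : l ≠ 0 := by
    rintro rfl
    simp at hl
  have h1 := tr_pow x hl n
  have hli : l ^ n * l⁻¹ ^ n = 1 := by rw [← mul_pow, mul_inv_cancel₀ h0, one_pow]
  constructor
  · intro h
    rw [h, map_zero] at h1
    have h3 : l⁻¹ ^ n = l ^ n := by
      have h4 : l ^ n + l⁻¹ ^ n = 0 := h1.symm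
      rw [← CharTwo.sub_eq_add] at h4
      exact (sub_eq_zero.1 h4).symm
    rw [h3] at hli
    have h2 : (1 : L) + 1 = 0 := CharTwo.add_self_eq_zero 1
    have h5 : (l ^ n + 1) * (l ^ n + 1) = 0 := by
      linear_combination hli + (l ^ n + 1) * h2
    have h6 := mul_self_eq_zero.1 h5
    rw [← CharTwo.sub_eq_add] at h6
    exact sub_eq_zero.1 h6
  · intro h
    rw [h, one_mul] at hli
    rw [h, hli] at h1
    apply (algebraMap F L).injective
    rw [h1, map_zero]
    exact CharTwo.add_self_eq_zero 1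

end ext

theorem tr_mul_self (x : SL) : tr (x * x) = tr x * tr x := by
  have h1 := tr_pow_succ x 0
  rw [zero_add, zero_add, pow_one, pow_zero, tr_one, add_zero, pow_two] at h1
  exact h1

theorem tr_eq_zero_iff (x : SL) : tr x = 0 ↔ x * x = 1 := by
  refine ⟨sq_eq_one_of_tr, fun h => ?_⟩
  have h1 := tr_mul_self x
  rw [h, tr_one] at h1
  exact mul_self_eq_zero.1 h1.symm

theorem exists_coprime_modEq {m N i : ℕ} (hN : N ≠ 0) (h : m ∣ N) (hi : i.Coprime m) :
    ∃ k : ℕ, k.Coprime N ∧ k ≡ i [MOD m] := by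
  have : NeZero N := ⟨hN⟩
  obtain ⟨u, hu⟩ := ZMod.unitsMap_surjective h (ZMod.unitOfCoprime i hi)
  refine ⟨(u : ZMod N).val, ZMod.val_coe_unit_coprime u, ?_⟩
  rw [← ZMod.natCast_eq_natCast_iff, ZMod.natCast_val, ← ZMod.unitsMap_val h, hu, ZMod.coe_unitOfCoprime]

theorem exists_pow_conj [Finite F] {g g' : SL} (h : orderOf g = orderOf g') :
    ∃ k : ℕ, k.Coprime (Nat.card SL) ∧ IsConj (g ^ k) g' := by
  have : CharP (AlgebraicClosure F) 2 := charP_of_injective_algebraMap (algebraMap F (AlgebraicClosure F)).injective 2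
  by_cases hg : g = 1
  · subst hg
    rw [orderOf_one] at h
    have h1 : g' = 1 := orderOf_eq_one_iff.1 h.symm
    subst h1
    exact ⟨1, Nat.coprime_one_left _, by rw [one_pow]⟩
  have hg' : g' ≠ 1 := by
    rintro rfl
    rw [orderOf_one] at h
    exact hg (orderOf_eq_one_iff.1 h)
  have hroot : ∀ x : SL, ∃ l : AlgebraicClosure F, l * l + algebraMap F (AlgebraicClosure F) (tr x) * l + 1 = 0 := by
    intro x
    obtain ⟨l, hl⟩ := IsAlgClosed.exists_root (Polynomial.X ^ 2 + Polynomial.C (algebraMap F (AlgebraicClosure F) (tr x)) * Polynomial.X + 1 : Polynomial (AlgebraicClosure F)) (by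
      have : (Polynomial.X ^ 2 + Polynomial.C (algebraMap F (AlgebraicClosure F) (tr x)) * Polynomial.X + 1 : Polynomial (AlgebraicClosure F)).degree = 2 := by
        have h3 := Polynomial.degree_quadratic (a := (1 : AlgebraicClosure F)) (b := algebraMap F (AlgebraicClosure F) (tr x)) (c := 1) one_ne_zero
        rwa [Polynomial.C_1, one_mul] at h3
      rw [this]
      exact two_ne_zero)
    refine ⟨l, ?_⟩
    simp only [Polynomial.IsRoot, Polynomial.eval_add, Polynomial.eval_mul, Polynomial.eval_pow, Polynomial.eval_X, Polynomial.eval_C, Polynomial.eval_one] at hl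
    rw [← hl]
    ring
  obtain ⟨l, hl⟩ := hroot g
  obtain ⟨l', hl'⟩ := hroot g'
  have hone : ∀ (x : SL) (l : AlgebraicClosure F), l * l + algebraMap F (AlgebraicClosure F) (tr x) * l + 1 = 0 →
      ∀ n, l ^ n = 1 ↔ orderOf x ∣ n * 2 := by
    intro x l hl n
    rw [← tr_pow_eq_zero x hl n, tr_eq_zero_iff, ← pow_two, ← pow_mul, orderOf_dvd_iff_pow_eq_one]
  have hord : orderOf l = orderOf l' := by
    rw [orderOf_eq_orderOf_iff]
    intro n
    rw [hone g l hl, hone g' l' hl', h]
  have hfin : IsOfFinOrder g := isOfFinOrder_of_finite g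
  have hlg : orderOf l ∣ orderOf g := by
    rw [orderOf_dvd_iff_pow_eq_one, hone g l hl]
    exact dvd_mul_right _ _
  have hpos : 0 < orderOf l := Nat.pos_of_dvd_of_pos hlg (orderOf_pos g)
  have : NeZero (orderOf l) := ⟨hpos.ne'⟩
  have hp : IsPrimitiveRoot l (orderOf l) := IsPrimitiveRoot.orderOf l
  have hp' : IsPrimitiveRoot l' (orderOf l) := by
    rw [hord]
    exact IsPrimitiveRoot.orderOf l'
  obtain ⟨i, -, hi, hil⟩ := hp.isPrimitiveRoot_iff.1 hp'
  have hdG : orderOf l ∣ Nat.card SL := hlg.trans (orderOf_dvd_natCard g)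
  obtain ⟨k, hk, hmod⟩ := exists_coprime_modEq (Nat.card_pos (α := SL)).ne' hdG hi
  refine ⟨k, hk, ?_⟩
  have hlk : l ^ k = l' := by
    rw [← hil, ← pow_mod_orderOf l k, hmod, pow_mod_orderOf]
  refine isConj_of_tr ?_ hg' ?_
  · intro h1
    apply hg
    have h2 : orderOf g ∣ k := orderOf_dvd_iff_pow_eq_one.2 h1
    have h3 : orderOf g ∣ 1 := by
      have h4 := Nat.dvd_gcd h2 (orderOf_dvd_natCard g)
      rwa [Nat.Coprime.gcd_eq_one hk] at h4
    exact orderOf_eq_one_iff.1 (Nat.dvd_one.1 h3)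
  · apply (algebraMap F (AlgebraicClosure F)).injective
    have h5 := tr_pow g' hl' 1
    rw [pow_one, pow_one, pow_one] at h5
    rw [tr_pow g hl, h5, inv_pow, hlk]

/-- a rational valued character takes the same value at elements of the same order -/
theorem eq_of_orderOf [Finite F] {χ : SL → ℂ} (hχ : IsCharacter SL χ) (hq : ∀ g, ∃ q : ℚ, χ g = q) {g g' : SL}
    (h : orderOf g = orderOf g') : χ g = χ g' := by
  obtain ⟨k, hk, hc⟩ := exists_pow_conj h
  rw [← (Characters.GaloisBasic.exists_rat_iff hχ g).1 (hq g) k hk]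
  obtain ⟨c, hc⟩ := isConj_iff.1 hc
  rw [← hc]
  exact (Characters.Core.isCharacter_isClassFunction hχ _ _).symm

end Cfsg.Agent.H673.R2
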